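import Mathlib
import Groth.Prelude.Def_LogNCD2
import Groth.Agent.Lib.Helper5.DConn.Lin
import Groth.Agent.Lib.Helper5.DegC.Cartier
import Groth.Agent.Lib.Lead.QC.Epi
import Groth.Agent.Lib.Lead.QC.InvBasis
import Groth.Agent.Lib.Lead.QC.FreeData
import Groth.Agent.Lib.Lead.QC.ProjFormulaLF

/-!
# The residue of a logarithmic connection (helper5, for S17119)
-/

set_option autoImplicit false
set_option linter.style.haveILetI false
universe u
open CategoryTheory CategoryTheory.Limits AlgebraicGeometry TopologicalSpace Opposite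

namespace Groth.Agent.H5.LogRes

open Groth.Agent.LD Groth.Agent.LD.QC Groth.Agent.H5.DConn

variable {X S : Scheme.{u}} {f : X ⟶ S} {Ω' : X.Modules} {d : OmegaSh.Der f Ω'} {r : ℕ}
  {D : Fin r → X.IdealSheafData}

/-- the residue of a logarithmic connection is `O_X`-linear. -/
theorem exists_residue (Λ : LogNCD.LogMod d D) (E : X.Modules)
    (nabla : Coh.toAb E ⟶ Coh.toAb (CohB1.tensorMod E Λ.L))
    (hc : ConnSh.IsConn (LogNCD.der Λ) E nabla) (i : Fin r) :
    ∃ ρ : E ⟶ CohB1.tensorMod E (ClSub.quotMod (D i)), LogNCD.IsResidue Λ E nabla i ρ := by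
  refine ⟨homOfLinear (nabla ≫ ab (KoszTw.tensorMap (𝟙 E) (Λ.res i))) ?_, ab_homOfLinear _ _⟩
  intro U t e
  rw [secApp_comp, secApp_comp, hc U t e, secApp_ab, secApp_ab]
  have h1 : ap (KoszTw.tensorMap (𝟙 E) (Λ.res i)) U
      (SecTwist.tmul E Λ.L U e ((LogNCD.der Λ).app U t)) = 0 := by
    have h2 := KoszTw.tensorMap_tmul (𝟙 E) (Λ.res i) U e ((LogNCD.der Λ).app U t)
    have h3 : (Λ.res i).app U ((LogNCD.der Λ).app U t) = 0 := by
      have h4 : (Λ.res i).app U ((LogNCD.der Λ).app U t) =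
          (Λ.ι ≫ Λ.res i).app U (d.app U t) := rfl
      rw [h4, Λ.res_ι]
      rfl
    rw [h3] at h2
    exact h2.trans (tmul_zero_right _ _ U _)
  rw [ap_add, ap_smul, h1, add_zero]

/-- the short complex `I → O → O/I`. -/
noncomputable abbrev SI (I : X.IdealSheafData) : ShortComplex X.Modules :=
  ShortComplex.mk (ClSub.idealModι I) (ClSub.toSubscheme I)
    (kernel.condition (ClSub.toSubscheme I))

/-- `E ⊗ I → E ⊗ O → E ⊗ O_D → 0` is exact with the last map an epimorphism. -/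
theorem exact_LT (E : X.Modules) (I : X.IdealSheafData) :
    ((SI I).map (LT E)).Exact ∧ Epi ((SI I).map (LT E)).g := by
  have hS := Groth.Agent.H5.DegC.shortExact_idealMod I
  refine ⟨hS.exact.map_of_epi_of_preservesCokernel (LT E) hS.epi_g inferInstance, ?_⟩
  haveI := hS.epi_g
  exact (LT E).map_epi _

theorem LT_g (E : X.Modules) (I : X.IdealSheafData) :
    ((SI I).map (LT E)).g = KoszTw.tensorMap (𝟙 E) (ClSub.toSubscheme I) :=
  KoszTw.tensorBi_obj_map E _

theorem LT_f (E : X.Modules) (I : X.IdealSheafData) :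
    ((SI I).map (LT E)).f = KoszTw.tensorMap (𝟙 E) (ClSub.idealModι I) :=
  KoszTw.tensorBi_obj_map E _

theorem tensor_zero (E : X.Modules) (I : X.IdealSheafData) :
    KoszTw.tensorMap (𝟙 E) (ClSub.idealModι I) ≫
      KoszTw.tensorMap (𝟙 E) (ClSub.toSubscheme I) = 0 := by
  have := ((SI I).map (LT E)).zero
  rwa [LT_g, LT_f] at this

instance epi_tensor (E : X.Modules) (I : X.IdealSheafData) :
    Epi (KoszTw.tensorMap (𝟙 E) (ClSub.toSubscheme I)) := by
  have := (exact_LT E I).2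
  rwa [LT_g] at this

/-- a local function vanishing on `D` kills the sections of `E ⊗ O_D`. -/
theorem smul_eq_zero (E : X.Modules) (I : X.IdealSheafData)
    (U : X.Opens) (g : Γ(ClSub.idealMod I, U))
    (z : Γ(CohB1.tensorMod E (ClSub.quotMod I), U)) :
    OmegaSh.idealSect I U g • z = 0 := by
  have hzero := tensor_zero E I
  choose V hV hxV w hw using fun x : U =>
    exists_local_lift (KoszTw.tensorMap (𝟙 E) (ClSub.toSubscheme I)) inferInstance U z x.1 x.2
  apply section_ext_of_cover _ V hV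
  · intro x hx
    exact Opens.mem_iSup.2 ⟨⟨x, hx⟩, hxV ⟨x, hx⟩⟩
  · intro x
    rw [map_zero]
    have h1 : (CohB1.tensorMod E (ClSub.quotMod I)).presheaf.map (homOfLE (hV x)).op
        (OmegaSh.idealSect I U g • z) =
        (X.presheaf.map (homOfLE (hV x)).op (OmegaSh.idealSect I U g)) •
          (CohB1.tensorMod E (ClSub.quotMod I)).presheaf.map (homOfLE (hV x)).op z :=
      Scheme.Modules.map_smul _ _ _ _
    rw [h1, ← hw x]
    set g' : Γ(ClSub.idealMod I, V x) := (ClSub.idealMod I).presheaf.map (homOfLE (hV x)).op g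
      with hg'
    have h2 : X.presheaf.map (homOfLE (hV x)).op (OmegaSh.idealSect I U g) =
        OmegaSh.idealSect I (V x) g' :=
      (app_res (ClSub.idealModι I) (hV x) g).symm
    rw [h2]
    set e' : Γ(E, V x) := (SecTwist.unitorR E).hom.app (V x) (w x) with he'
    set rr : Γ(X, V x) := OmegaSh.idealSect I (V x) g' with hrr
    have h3 : SecTwist.tmul E (Coh.structureModule X) (V x) e' rr = rr • w x := by
      apply (app_bijective_of_isIso (SecTwist.unitorR E).hom (V x)).1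
      have h4 := SecTwist.unitorR_tmul E (V x) e' rr
      refine h4.trans ?_
      exact (Scheme.Modules.Hom.app_smul (SecTwist.unitorR E).hom rr (w x)).symm
    have h5 : (KoszTw.tensorMap (𝟙 E) (ClSub.idealModι I)).app (V x)
        (SecTwist.tmul E (ClSub.idealMod I) (V x) e' g') =
        SecTwist.tmul E (Coh.structureModule X) (V x) e' rr :=
      KoszTw.tensorMap_tmul (𝟙 E) (ClSub.idealModι I) (V x) e' g'
    have h6 : rr • (KoszTw.tensorMap (𝟙 E) (ClSub.toSubscheme I)).app (V x) (w x) =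
        (KoszTw.tensorMap (𝟙 E) (ClSub.toSubscheme I)).app (V x) (rr • w x) :=
      (Scheme.Modules.Hom.app_smul _ rr (w x)).symm
    rw [h6, ← h3, ← h5]
    change (KoszTw.tensorMap (𝟙 E) (ClSub.idealModι I) ≫
      KoszTw.tensorMap (𝟙 E) (ClSub.toSubscheme I)).app (V x) _ = 0
    rw [hzero]
    rfl

theorem key (E : X.Modules) (I : X.IdealSheafData)
    (ρ : E ⟶ CohB1.tensorMod E (ClSub.quotMod I)) :
    KoszTw.tensorMap (𝟙 E) (ClSub.idealModι I) ≫ ((SecTwist.unitorR E).hom ≫ ρ) = 0 := by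
  apply hom_ext_tmul
  intro U e g
  have h1 : (KoszTw.tensorMap (𝟙 E) (ClSub.idealModι I) ≫ (SecTwist.unitorR E).hom ≫ ρ).app U
      (SecTwist.tmul E (ClSub.idealMod I) U e g) =
      ρ.app U ((SecTwist.unitorR E).hom.app U
        ((KoszTw.tensorMap (𝟙 E) (ClSub.idealModι I)).app U
          (SecTwist.tmul E (ClSub.idealMod I) U e g))) := rfl
  rw [h1, KoszTw.tensorMap_tmul]
  have h2 := SecTwist.unitorR_tmul E U ((𝟙 E : E ⟶ E).app U e) (OmegaSh.idealSect I U g)
  have h3 : ρ.app U ((SecTwist.unitorR E).hom.app U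
      (SecTwist.tmul E (Coh.structureModule X) U ((𝟙 E : E ⟶ E).app U e)
        ((ClSub.idealModι I).app U g))) =
      ρ.app U ((OmegaSh.idealSect I U g) • ((𝟙 E : E ⟶ E).app U e)) :=
    congrArg (ρ.app U) h2
  rw [h3]
  refine (Scheme.Modules.Hom.app_smul ρ _ _).trans ?_
  rw [smul_eq_zero E I U g]
  rfl

/-- the residue factors through the restriction to `D_i`. -/
theorem exists_factor (E : X.Modules) (I : X.IdealSheafData)
    (ρ : E ⟶ CohB1.tensorMod E (ClSub.quotMod I)) :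
    ∃ R : CohB1.tensorMod E (ClSub.quotMod I) ⟶ CohB1.tensorMod E (ClSub.quotMod I),
      (SecTwist.unitorR E).inv ≫ KoszTw.tensorMap (𝟙 E) (ClSub.toSubscheme I) ≫ R = ρ := by
  obtain ⟨hS, hepi⟩ := exact_LT E I
  haveI := hepi
  have h0 : ((SI I).map (LT E)).f ≫ ((SecTwist.unitorR E).hom ≫ ρ) = 0 := by
    rw [LT_f]
    exact key E I ρ
  obtain ⟨R, hR⟩ : ∃ R : CohB1.tensorMod E (ClSub.quotMod I) ⟶ CohB1.tensorMod E (ClSub.quotMod I),
      KoszTw.tensorMap (𝟙 E) (ClSub.toSubscheme I) ≫ R = (SecTwist.unitorR E).hom ≫ ρ := by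
    refine ⟨hS.desc ((SecTwist.unitorR E).hom ≫ ρ) h0, ?_⟩
    have h1 := hS.g_desc ((SecTwist.unitorR E).hom ≫ ρ) h0
    rw [LT_g] at h1
    exact h1
  refine ⟨R, ?_⟩
  calc (SecTwist.unitorR E).inv ≫ KoszTw.tensorMap (𝟙 E) (ClSub.toSubscheme I) ≫ R
      = (SecTwist.unitorR E).inv ≫ ((SecTwist.unitorR E).hom ≫ ρ) :=
        congrArg (fun t => (SecTwist.unitorR E).inv ≫ t) hR
    _ = ρ := by rw [← Category.assoc, Iso.inv_hom_id, Category.id_comp]

end Groth.Agent.H5.LogRes
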