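import Mathlib
import Groth.Prelude.Def_LogNCD2
import Groth.Agent.Lib.Helper5.LogRes.Res
import Groth.Agent.Lib.Lead.QC.QuotSupp
import Groth.Agent.Lib.Lead.QC.EpiLocal
import Groth.Agent.Lib.Helper3.ZClosLib

/-!
# The residue sequence of the sheaf of logarithmic differentials (helper5, for S17102)
-/

set_option autoImplicit false
set_option linter.style.haveILetI false
universe u
open CategoryTheory CategoryTheory.Limits AlgebraicGeometry TopologicalSpace Opposite

namespace Groth.Agent.H5.LogRes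

open Groth.Agent.LD Groth.Agent.LD.QC Groth.Agent.H5.DConn

variable {X S : Scheme.{u}} {f : X ⟶ S} {Ω' : X.Modules} {d : OmegaSh.Der f Ω'} {r : ℕ}
  {D : Fin r → X.IdealSheafData}

section Basic

theorem app_add' {M N : X.Modules} (φ : M ⟶ N) (U : X.Opens) (x y : Γ(M, U)) :
    φ.app U (x + y) = φ.app U x + φ.app U y := map_add (φ.app U).hom x y

theorem app_zero' {M N : X.Modules} (φ : M ⟶ N) (U : X.Opens) :
    φ.app U (0 : Γ(M, U)) = 0 := map_zero (φ.app U).hom

theorem app_sum' {M N : X.Modules} (φ : M ⟶ N) (U : X.Opens) {ι : Type*} (s : Finset ι)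
    (x : ι → Γ(M, U)) : φ.app U (∑ i ∈ s, x i) = ∑ i ∈ s, φ.app U (x i) :=
  map_sum (φ.app U).hom x s

/-- an ideal sheaf is the unit ideal on affine opens disjoint from its support. -/
theorem ideal_eq_top_of_disjoint (I : X.IdealSheafData) (W : X.affineOpens)
    (h : Disjoint (I.support : Set X) (W.1 : Set X)) : I.ideal W = ⊤ := by
  have h1 := I.coe_support_inter W
  have h2 : X.zeroLocus (U := W.1) (I.ideal W : Set Γ(X, W.1)) ∩ (W.1 : Set X) = ∅ := by
    rw [← h1]
    exact Set.disjoint_iff_inter_eq_empty.mp h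
  have h3 := W.2.fromSpec_image_zeroLocus (I.ideal W : Set Γ(X, W.1))
  rw [h2, Set.image_eq_empty] at h3
  exact PrimeSpectrum.zeroLocus_empty_iff_eq_top.mp h3

/-- sections of a finite product are determined by their components. -/
theorem pi_section_ext (Q : Fin r → X.Modules) (W : X.Opens) (s s' : Γ(∏ᶜ Q, W))
    (h : ∀ j, (Pi.π Q j).app W s = (Pi.π Q j).app W s') : s = s' := by
  let e : ∏ᶜ Q ≅ ⨁ Q :=
    (limit.isLimit (Discrete.functor Q)).conePointUniqueUpToIso (biproduct.isLimit Q)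
  have he : ∀ j, e.hom ≫ biproduct.π Q j = Pi.π Q j := fun j =>
    IsLimit.conePointUniqueUpToIso_hom_comp (limit.isLimit (Discrete.functor Q))
      (biproduct.isLimit Q) (Discrete.mk j)
  have hinj : Function.Injective (e.hom.app W) :=
    (app_bijective_of_isIso e.hom W).1
  apply hinj
  have htot : ∀ u : Γ(⨁ Q, W), u = ∑ j, (biproduct.ι Q j).app W ((biproduct.π Q j).app W u) := by
    intro u
    have h1 : (𝟙 (⨁ Q) : ⨁ Q ⟶ ⨁ Q).app W u = u := rfl
    have h2 := biproduct.total (f := Q)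
    have h3 : ∀ (T : Finset (Fin r)),
        (∑ j ∈ T, biproduct.π Q j ≫ biproduct.ι Q j : ⨁ Q ⟶ ⨁ Q).app W u =
          ∑ j ∈ T, (biproduct.ι Q j).app W ((biproduct.π Q j).app W u) := by
      intro T
      induction T using Finset.induction_on with
      | empty => simp only [Finset.sum_empty]; rfl
      | insert a T ha ih =>
        rw [Finset.sum_insert ha, Finset.sum_insert ha, ← ih]
        rfl
    rw [← h3, h2]
    exact h1.symm
  rw [htot (e.hom.app W s), htot (e.hom.app W s')]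
  refine Finset.sum_congr rfl fun j _ => ?_
  have h4 : ∀ z : Γ(∏ᶜ Q, W), (biproduct.π Q j).app W (e.hom.app W z) = (Pi.π Q j).app W z := by
    intro z
    have := congr($(he j).app W z)
    exact this
  rw [h4, h4, h j]

end Basic

section Equations

/-- around every point all components of a normal crossing divisor are principal on small affine
opens. -/
theorem exists_equations (hD : LogNCD.IsNCD D f) (x : X) (U : X.Opens) (hx : x ∈ U) :
    ∃ W : X.affineOpens, x ∈ W.1 ∧ W.1 ≤ U ∧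
      ∃ g : Fin r → Γ(X, W.1), ∀ i, (D i).ideal W = Ideal.span {g i} := by
  classical
  by_cases hT : Nonempty (LogNCD.Through D x)
  · obtain ⟨W₀, hxW₀, n, v, e, -, -, h1, h2⟩ := hD x hT
    obtain ⟨W, hW, hxW, hWsub⟩ :=
      exists_isAffineOpen_mem_and_subset (x := x) (U := W₀ ⊓ U) ⟨hxW₀, hx⟩
    have hWW₀ : W ≤ W₀ := fun y hy => (hWsub hy).1
    have hWU : W ≤ U := fun y hy => (hWsub hy).2
    refine ⟨⟨W, hW⟩, hxW, hWU, fun i => if hi : x ∈ (D i).support then
      LogNCD.sectOn W₀ hWW₀ (v (ULift.up (e ⟨i, hi⟩))) else 1, ?_⟩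
    intro i
    by_cases hi : x ∈ (D i).support
    · simp only [dif_pos hi]
      exact h1 ⟨i, hi⟩ ⟨W, hW⟩ hWW₀
    · simp only [dif_neg hi]
      rw [h2 i hi ⟨W, hW⟩ hWW₀, Ideal.span_singleton_one]
  · have hnot : ∀ i, x ∉ (D i).support := fun i hi => hT ⟨⟨i, hi⟩⟩
    let V : X.Opens := ⟨(⋃ i, ((D i).support : Set X))ᶜ,
      (isClosed_iUnion_of_finite fun i => (D i).support.isClosed).isOpen_compl⟩
    have hxV : x ∈ V := by
      change x ∉ ⋃ i, ((D i).support : Set X)
      rw [Set.mem_iUnion]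
      rintro ⟨i, hi⟩
      exact hnot i hi
    obtain ⟨W, hW, hxW, hWsub⟩ :=
      exists_isAffineOpen_mem_and_subset (x := x) (U := V ⊓ U) ⟨hxV, hx⟩
    have hWU : W ≤ U := fun y hy => (hWsub hy).2
    refine ⟨⟨W, hW⟩, hxW, hWU, fun _ => 1, fun i => ?_⟩
    rw [Ideal.span_singleton_one]
    apply ideal_eq_top_of_disjoint
    rw [Set.disjoint_left]
    intro y hy hyW
    have hyV : y ∈ V := (hWsub hyW).1
    exact hyV (Set.mem_iUnion.2 ⟨i, hy⟩)

end Equations

section Local

variable (Λ : LogNCD.LogMod d D)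

/-- the affine-local description, repackaged. -/
theorem exists_dl (W : X.affineOpens) (g : Fin r → Γ(X, W.1))
    (hg : ∀ i, (D i).ideal W = Ideal.span {g i}) :
    ∃ dl : Fin r → Γ(Λ.L, W.1),
      (∀ i, g i • dl i = Λ.ι.app W.1 (d.app W.1 (g i))) ∧
      (∀ s : Γ(Λ.L, W.1), ∃ (ω : Γ(Ω', W.1)) (a : Fin r → Γ(X, W.1)),
        s = Λ.ι.app W.1 ω + ∑ j, a j • dl j) ∧
      (∀ i, (Λ.res i).app W.1 (dl i) = (ClSub.toSubscheme (D i)).app W.1 (1 : Γ(X, W.1))) ∧
      (∀ i j, i ≠ j → (Λ.res j).app W.1 (dl i) = 0) := by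
  classical
  obtain ⟨-, dl, h1, hspan, h3, h4⟩ := Λ.rule W g hg
  refine ⟨dl, h1, ?_, h3, h4⟩
  intro s
  have hmem : s ∈ Submodule.span Γ(X, W.1)
      (Set.range ((Λ.ι.val.app (op W.1)).hom) ∪ Set.range dl) := by
    rw [hspan]; trivial
  induction hmem using Submodule.span_induction with
  | mem x hx =>
    rcases hx with ⟨ω, rfl⟩ | ⟨i, rfl⟩
    · refine ⟨ω, 0, ?_⟩
      simp only [Pi.zero_apply, zero_smul, Finset.sum_const_zero, add_zero]
      rfl
    · refine ⟨0, Pi.single i 1, ?_⟩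
      rw [app_zero', zero_add, Finset.sum_eq_single i]
      · rw [Pi.single_eq_same, one_smul]
      · intro j _ hj
        rw [Pi.single_eq_of_ne hj, zero_smul]
      · intro hi
        exact (hi (Finset.mem_univ i)).elim
  | zero =>
    refine ⟨0, 0, ?_⟩
    simp only [Pi.zero_apply, zero_smul, Finset.sum_const_zero, add_zero]
    exact (app_zero' _ _).symm
  | add x y _ _ hx hy =>
    obtain ⟨ω, a, rfl⟩ := hx
    obtain ⟨ω', a', rfl⟩ := hy
    refine ⟨ω + ω', a + a', ?_⟩
    rw [app_add']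
    simp only [Pi.add_apply, add_smul, Finset.sum_add_distrib]
    abel
  | smul c x _ hx =>
    obtain ⟨ω, a, rfl⟩ := hx
    refine ⟨c • ω, fun j => c * a j, ?_⟩
    rw [smul_add, Finset.smul_sum]
    congr 1
    · exact (Scheme.Modules.Hom.app_smul Λ.ι c ω).symm
    · refine Finset.sum_congr rfl fun j _ => ?_
      rw [mul_smul]

/-- a section of `Ω¹(log D)` without residues is a form without poles. -/
theorem exists_of_res_eq_zero (W : X.affineOpens) (g : Fin r → Γ(X, W.1))
    (hg : ∀ i, (D i).ideal W = Ideal.span {g i}) (s : Γ(Λ.L, W.1))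
    (hs : ∀ j, (Λ.res j).app W.1 s = 0) : ∃ ω : Γ(Ω', W.1), Λ.ι.app W.1 ω = s := by
  classical
  obtain ⟨dl, h1, h2, h3, h4⟩ := exists_dl Λ W g hg
  obtain ⟨ω, a, rfl⟩ := h2 s
  have ha : ∀ j, ∃ b : Γ(X, W.1), b * g j = a j := by
    intro j
    have h5 := hs j
    rw [app_add', app_sum'] at h5
    have h6 : (Λ.res j).app W.1 (Λ.ι.app W.1 ω) = 0 := by
      have : (Λ.ι ≫ Λ.res j).app W.1 ω = 0 := by rw [Λ.res_ι]; rfl
      exact this
    rw [h6, zero_add, Finset.sum_eq_single j] at h5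
    · rw [Scheme.Modules.Hom.app_smul, h3, toSubscheme_app_smul, mul_one,
        toSubscheme_app_eq_zero_iff (D j) W, hg j, Ideal.mem_span_singleton'] at h5
      exact h5
    · intro i _ hij
      rw [Scheme.Modules.Hom.app_smul, h4 i j hij, smul_zero]
    · intro hj
      exact (hj (Finset.mem_univ j)).elim
  choose b hb using ha
  refine ⟨ω + ∑ j, b j • d.app W.1 (g j), ?_⟩
  rw [app_add', app_sum']
  congr 1
  refine Finset.sum_congr rfl fun j _ => ?_
  rw [Scheme.Modules.Hom.app_smul, ← h1, ← mul_smul, hb]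

end Local

section Main

/-- the residue sequence `0 → Ω' → Ω¹(log D) → ⊕ O_{D_j} → 0` is short exact. -/
theorem shortExact_residue (hD : LogNCD.IsNCD D f) (Λ : LogNCD.LogMod d D)
    (h : Λ.ι ≫ Pi.lift Λ.res = 0) :
    (ShortComplex.mk Λ.ι (Pi.lift Λ.res) h).ShortExact := by
  classical
  haveI : Mono Λ.ι := Λ.mono
  have hepi : Epi (Pi.lift Λ.res) := by
    apply epi_of_local_lift
    intro U t x hx
    obtain ⟨W, hxW, hWU, g, hg⟩ := exists_equations hD x U hx
    obtain ⟨dl, h1, h2, h3, h4⟩ := exists_dl Λ W g hg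
    have hsurj : ∀ j, ∃ a : Γ(X, W.1), (ClSub.toSubscheme (D j)).app W.1 a =
        (Pi.π (fun j => ClSub.quotMod (D j)) j).app W.1
          ((∏ᶜ fun j => ClSub.quotMod (D j)).presheaf.map (homOfLE hWU).op t) :=
      fun j => toSubscheme_app_surjective (D j) W _
    choose a ha using hsurj
    refine ⟨W.1, hWU, hxW, ∑ i, a i • dl i, ?_⟩
    apply pi_section_ext
    intro j
    have h5 : (Pi.π (fun j => ClSub.quotMod (D j)) j).app W.1
        ((Pi.lift Λ.res).app W.1 (∑ i, a i • dl i)) = (Λ.res j).app W.1 (∑ i, a i • dl i) := by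
      have := congr($(Pi.lift_π Λ.res j).app W.1 (∑ i, a i • dl i))
      exact this
    rw [h5, app_sum', Finset.sum_eq_single j]
    · rw [Scheme.Modules.Hom.app_smul, h3, toSubscheme_app_smul, mul_one, ha]
    · intro i _ hij
      rw [Scheme.Modules.Hom.app_smul, h4 i j hij, smul_zero]
    · intro hj
      exact (hj (Finset.mem_univ j)).elim
  refine ShortComplex.ShortExact.mk' ?_ ‹_› hepi
  rw [ShortComplex.exact_iff_epi_kernel_lift]
  apply epi_of_local_lift
  intro U t x hx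
  obtain ⟨W, hxW, hWU, g, hg⟩ := exists_equations hD x U hx
  set t' := (kernel (Pi.lift Λ.res)).presheaf.map (homOfLE hWU).op t with ht'
  have hs : ∀ j, (Λ.res j).app W.1 ((kernel.ι (Pi.lift Λ.res)).app W.1 t') = 0 := by
    intro j
    have h5 : (kernel.ι (Pi.lift Λ.res) ≫ Pi.lift Λ.res) ≫ Pi.π _ j =
        kernel.ι (Pi.lift Λ.res) ≫ Λ.res j := by
      rw [Category.assoc, Pi.lift_π]
    have h6 := congr($(h5).app W.1 t')
    rw [kernel.condition, zero_comp] at h6
    exact h6.symm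
  obtain ⟨ω, hω⟩ := exists_of_res_eq_zero Λ W g hg _ hs
  refine ⟨W.1, hWU, hxW, ω, ?_⟩
  apply Groth.Agent.H3.ZClosLib.app_injective_of_mono (kernel.ι (Pi.lift Λ.res)) W.1
  refine Eq.trans ?_ hω
  have h7 := congr($(kernel.lift_ι (Pi.lift Λ.res) Λ.ι h).app W.1 ω)
  exact h7

end Main

end Groth.Agent.H5.LogRes
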